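import Mathlib

set_option autoImplicit false
set_option maxRecDepth 100000

namespace Cfsg.Agent.Lib.Helper3.L42.L1

noncomputable def fc0_0 (i : ℕ) : ℕ := (nat_lit 0xe0001c300000e0001c100000d00018400000c0001a200000900018100000c00012300000c0001a100000d0001830000090001a300000d00012100000800014200000a00010400000a00016300000b00014100000600014300000a0000c100000b0001c400000e00016200000700016400000b0000e20000070000e30000070000e100000300006300000300006100000000000e00000000000e00000000000d00000000000d00000000000f00000000000f00000000000900000000000a00000000000b00000000000c0000080000a10000050001030000020000440000020000420000040000a30000050000810000010000430000020000210000000000080000000000070000000000060000000000050000090001c200000e0001240000080001a400000d00010200000600018200000c0000c400000600016100000b0000c300000500014400000a0000a20000040001220000090000840000040001010000080000830000030000e40000070000620000010000c20000060000240000010000a4000005000022000000000082000004000004000000000064000003000002000000000041000002000003000000000023000001000001)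
noncomputable def sc0_0 (i : ℕ) : ℕ := (nat_lit 0xf00000b00000900002000003f00004700004200001500004300004400002200002700003c00003200000e000f001400000500000000000200002d00001e00002300003600000600000b00003000000900003300002300003600001e00003d00004500004200002500003a00003000000900000b00002e000002000005000000001b001300003300003d00004200002200001e00001e00004100004200003a00003000000600002f00003900003a00001d00003500003d00003e00001000001000003600000c00002f00000800000500002a000001001b001200002b00000600000300003300003b00004000003800001b0000280009001100002f00003900003c00001a00001a00001f00003600002c00000500003500003600001d00003900003a00000d0000320000080000030000010000260014001000001600002a00000300003300003d00003800000b000030000009000006000001000b000f0000010000260002000100002f00003900001c00001c00000e00001000000d00000900000b000038000030000026000c000e00000100002b00003300003000002600001c0006000d00000100002900000300003100003200001100001500002a0000200009000c00002700002f00001600000800000300002e0000260007000b00002d00000600000800000500000300002c0006000a00000600000400000600000400040009000002000004000004000003000400080000020000020000000000030000010005000700000b00000b0002000600000a00000900000b00000900000b00050005000017000002000200040000210000060000200003000300001b0000020000200000180004000200001f00001c000200010000fffe0000fffe0000ffff0000ffff0000ffff0000ffff0000ffff0000ffff0000ffff0000ffff0000ffff0000ffff0000ffff0000ffff0000ffff0000ffff)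
noncomputable def nc0_0 (i : ℕ) : ℕ := (nat_lit 0xe00000d00000c00000b00000a000009000008000007000006000005000004000003000002000001000000)
noncomputable def cc0_0 (i : ℕ) : ℕ := (nat_lit 0xb00003800000e00004800000800001800000900004000000d00004600000d00004300000700003600000a00003c00000500001200000600003a00000e00001b00000c00004500000a00003f00000500002700000300000c00000700003400000c00001700000b00001500000100000800000400002200000900001100000800000f00000000000400000300003200000200002400000100002000000600000b000000000000000004000007000002000003)

end Cfsg.Agent.Lib.Helper3.L42.L1
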