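import Mathlib

set_option autoImplicit false
set_option maxRecDepth 100000

namespace Cfsg.Agent.Lib.Helper3.L42.L2

noncomputable def fc0_0 (i : ℕ) : ℕ := (nat_lit 0x50000c80000060000a700000c0001a800000d00018700000b00018800000c00016700000700014e00000a0000ee0000080000e800000700010700000700008b0000040000ec00000900016800000b00012700000400016a00000b0000890000040000ab00000500008c00000500016e00000b0000ae00000d00014800000a0001a700000400012800000900008700000600016b00000b0000cc0000070000480000020000e700000000000e00000000000e00000c0001a600000d00018500000800006500000300010600000a0000cb00000600014c0000050000c90000060000aa00000a0000a60000050001450000030000080000000000670000060000660000030000c500000900016600000b0001250000050000c60000060000a500000000000c00000000000b00000000000a00000000000900000a0001a500000d00014600000800018600000c00010500000700016500000b0000e600000400014700000a0000880000040001260000090000850000020001080000080000470000020000e50000070000460000010000c70000060000280000010000a8000005000027000001000086000004000025000000000068000003000007000000000045000002000006000000000026000001000005)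
noncomputable def sc0_0 (i : ℕ) : ℕ := (nat_lit 0x2500003200000100003500001e00004700004800003e00000700001e000029000b000b00003300003b00003c00000500001c000045000046000017000034000009000039000036000030000d001200000700002600000900000500000000002e0000190007001000003000002500000f00003200001e00001c00001b000700110000350000410000290000260000130000400000360007001000003500000f00002c0000010000310005000600002f00003900003400002100001900000700001100002900003100003200002a000b000f00000000000200001d00000700002c00001c0006000e00002a00000500003500003000001d000500060000130000010000210000120000100000040006000d00001f00002500003100002c00001400001200003400000500002b00002800000a00003300003600002e000011000f000c00002f00003500001100001300001700002d000035000032000003000020000015000b000b00001000002f00003000000100001e0005000600002500002f00001700001500000100002e0006000a0000130000150000130000150004000900001700000000000b00000f0000070000140006000800001d000029000007000300070000020000210000290000050000070005000600001f00001c0002000500001300001f00001c0003000300001f0000080002000400001700002100001c0003000300000f00001900001f00001c00001200000a0006000200001500001d00000000001c000012000500010000fffe0000fffe0000ffff0000ffff0000ffff0000ffff0000ffff0000ffff0000ffff0000ffff0000ffff0000ffff0000ffff0000ffff0000ffff)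
noncomputable def nc0_0 (i : ℕ) : ℕ := (nat_lit 0xd00000c00000b00000a000009000008000007000006000005000004000003000002000001000000)
noncomputable def cc0_0 (i : ℕ) : ℕ := (nat_lit 0xc00004a00000c00002e00000b00004800000800001600000900004000000900002000000d00003800000d00001900000400003600000400001000000200000e00000300002d00000800004400000b00001500000500004c00000500001e00000100000800000a00002600000a00001300000100000600000000000400000600002200000700003200000700000d00000600000b000000000000000003000024000002000003)

end Cfsg.Agent.Lib.Helper3.L42.L2
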