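import Mathlib

set_option autoImplicit false
set_option maxRecDepth 100000

namespace Cfsg.Agent.Lib.Helper3.L42.L3

noncomputable def fc0_0 (i : ℕ) : ℕ := (nat_lit 0x800014b00000a00010c00000800014c00000a00010b00000a0000aa0000050001490000080000ca00000600010900000b0000cc00000600016b00000b0000ea00000700016900000700012a0000090000e90000030000c900000600006a00000900016a00000b00012900000900008c00000400012b00000700004c0000020000eb00000100004a00000200002900000500008a0000040000a900000000000f00000000000f00000000000e00000000000e00000000000d00000000000d00000500016c00000b0000ab00000400014a00000a00008900000300012c00000900006b00000300010a0000080000690000020000ec00000700004b0000010000cb00000600002c0000010000ac00000500002b00000000008b00000400000c00000000006c00000300000b00000000004900000200000a00000000002a000001000009)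
noncomputable def sc0_0 (i : ℕ) : ℕ := (nat_lit 0x2500002f00003000002600000900001f0000030007000b00002300002d00002e00001100000700001d0000010007000a00001d00000d00000700000500000b00001f00000800000100002100002b00002c00001100002f000028000013000f000900001f000006000200020000170000230000200003000400001500002100002900002200000700000100001d0000090008000800000600002500000d0000200000050005000700001400000000001100000800001f00002400001a0007000600000000001d00002000001600000200000500001a00000e0008000500001100001d00001a0003000400001300001d00000900001c0004000300001d00001a0002000200001300001b000003000014000400010000fffe0000fffe0000fffe0000ffff0000ffff0000ffff0000ffff0000ffff0000ffff0000ffff0000ffff0000ffff0000ffff0000ffff)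
noncomputable def nc0_0 (i : ℕ) : ℕ := (nat_lit 0xb00000a000009000008000007000006000005000004000003000002000001000000)
noncomputable def cc0_0 (i : ℕ) : ℕ := (nat_lit 0x500001400000900002400000800003200000400001200000300001000000700002800000a00003500000300000e00000200000c00000b00002a00000b00002c00000800002e00000100000800000a00003000000900002200000500001c00000000000400000600002700000700002000000100001e00000600000b000000000000000004000007000002000003)

end Cfsg.Agent.Lib.Helper3.L42.L3
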